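import Groth.Agent.BlowPush22.Restrict
import Groth.Agent.QCoh.TensorSections
import Groth.Agent.AModX.Res
import Groth.Prelude.Def_W4c2seshadriposJets

/-!
# Separation of jets and tensor products
-/

set_option autoImplicit false
set_option linter.style.haveILetI false
set_option backward.isDefEq.respectTransparency false
set_option backward.isDefEq.respectTransparency.types false
set_option maxHeartbeats 800000

universe u

open CategoryTheory CategoryTheory.Limits AlgebraicGeometry TopologicalSpace Opposite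

noncomputable section

namespace Groth.Agent.JetsPt22

open Groth.Agent Groth.Agent.AModX

variable {X : Scheme.{u}}

/-- Restriction between equal opens is bijective. -/
theorem bijective_res_of_eq {M : X.Modules} {V W : X.Opens} (h : W ≤ V) (e : W = V) :
    Function.Bijective (res M h) := by
  subst e
  exact ⟨fun a b hab => by simpa using hab, fun b => ⟨b, by simp⟩⟩

/-- Separation of jets on an affine neighbourhood. -/
theorem separates_iff {x : X} (hx : IsClosed ({x} : Set X)) {F : X.Modules} (hF : Coh.IsQCoh F)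
    {U : X.affineOpens} (hxU : x ∈ U.1) (l : ℕ) :
    W4c2seshadripos.SeparatesJets F x hx l ↔ ∀ f : Γ(F, U.1), ∃ s : Γ(F, ⊤),
      res F le_top s - f ∈ ((W4c2seshadripos.pointIdeal x hx).ideal U) ^ (l + 1) •
        (⊤ : Submodule Γ(X, U.1) Γ(F, U.1)) := by
  let I := (W4c2seshadripos.pointIdeal x hx) ^ (l + 1)
  let η := BlowPush22.resMap I F
  let Q := (Scheme.Modules.pushforward I.subschemeι).obj ((Scheme.Modules.pullback I.subschemeι).obj F)
  have hU : I.subschemeι ⁻¹ᵁ U.1 = ⊤ := by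
    refine top_le_iff.1 fun z _ => ?_
    have hz := I.range_subschemeι.le ⟨z, rfl⟩
    have key : ∀ n : ℕ, (((W4c2seshadripos.pointIdeal x hx) ^ n).support : Set X) ⊆ {x} := by
      intro n
      induction n with
      | zero => simp
      | succ n ih =>
        rw [pow_succ, Scheme.IdealSheafData.support_mul]
        exact fun y hy => hy.elim (fun h => ih h) id
    show I.subschemeι z ∈ U.1
    rw [Set.mem_singleton_iff.1 (key _ hz)]
    exact hxU
  have hres : Function.Bijective (res Q (le_top : U.1 ≤ ⊤)) :=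
    bijective_res_of_eq (M := (Scheme.Modules.pullback I.subschemeι).obj F) _ hU
  obtain ⟨hsurj, hker⟩ := QCoh.unit_app_closed I.subschemeι hF U.2
  rw [Scheme.IdealSheafData.ker_subschemeι] at hker
  have hI : I.ideal ⟨U.1, U.2⟩ = ((W4c2seshadripos.pointIdeal x hx).ideal U) ^ (l + 1) := by
    show ((W4c2seshadripos.pointIdeal x hx) ^ (l + 1)).ideal U = _
    rw [Scheme.IdealSheafData.ideal_pow]
    rfl
  rw [hI] at hker
  let eA := Sheaf.H.equiv₀ (Coh.toAb F) isTerminalTop
  let eB := Sheaf.H.equiv₀ (Coh.toAb Q) isTerminalTop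
  have hnat : ∀ z, eB (W4c2seshadripos.resH I F z) = η.app ⊤ (eA z) := fun z =>
    (Sheaf.H.equiv₀_naturality isTerminalTop ((SheafOfModules.toSheaf X.ringCatSheaf).map η) z).symm
  constructor
  · intro h f
    obtain ⟨q, hq⟩ := hres.2 (η.app U.1 f)
    obtain ⟨z, hz⟩ := h (eB.symm q)
    refine ⟨eA z, (hker _).1 ?_⟩
    have h1 : η.app ⊤ (eA z) = q := by rw [← hnat]; exact (congrArg eB hz).trans (eB.apply_symm_apply q)
    rw [map_sub, sub_eq_zero]
    exact (app_res η le_top (eA z)).trans ((congrArg _ h1).trans hq)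
  · intro h q
    obtain ⟨f, hf⟩ := hsurj (res Q le_top (eB q))
    obtain ⟨s, hs⟩ := h f
    refine ⟨eA.symm s, eB.injective (hres.1 ?_)⟩
    have h1 := (hker _).2 hs
    rw [map_sub, sub_eq_zero] at h1
    rw [hnat, AddEquiv.apply_symm_apply]
    exact ((app_res η le_top s).symm.trans h1).trans hf

variable {M N : X.Modules} {U : X.affineOpens} (m : Ideal Γ(X, U.1))

/-- Products of filtered sections. -/
theorem tmS_mem {p q r : ℕ} (hr : r ≤ p + q) {s : Γ(M, U.1)} {t : Γ(N, U.1)}
    (hs : s ∈ m ^ p • (⊤ : Submodule Γ(X, U.1) Γ(M, U.1))) (ht : t ∈ m ^ q • (⊤ : Submodule Γ(X, U.1) Γ(N, U.1))) :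
    QCoh.tmS M N s t ∈ m ^ r • (⊤ : Submodule Γ(X, U.1) Γ((DCoh.tensorBi.obj M).obj N, U.1)) := by
  refine Submodule.smul_induction_on hs (fun a ha z _ => ?_) fun y z hy hz => ?_
  · refine Submodule.smul_induction_on ht (fun b hb w _ => ?_) fun y w hy hw => ?_
    · rw [QCoh.tmS_smul_left, QCoh.tmS_smul_right, ← mul_smul]
      exact Submodule.smul_mem_smul (Ideal.pow_le_pow_right hr (pow_add m p q ▸ Ideal.mul_mem_mul ha hb)) trivial
    · rw [QCoh.tmS_add_right]; exact add_mem hy hw
  · rw [QCoh.tmS_add_left]; exact add_mem hy hz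

/-- Global products reach the filtration step by step. -/
theorem exists_global_tensor (hM : Coh.IsQCoh M) (hN : Coh.IsQCoh N) (i j : ℕ)
    (hi : ∀ f : Γ(M, U.1), ∃ s : Γ(M, ⊤), res M le_top s - f ∈ m ^ (i + 1) • (⊤ : Submodule Γ(X, U.1) Γ(M, U.1)))
    (hj : ∀ f : Γ(N, U.1), ∃ s : Γ(N, ⊤), res N le_top s - f ∈ m ^ (j + 1) • (⊤ : Submodule Γ(X, U.1) Γ(N, U.1)))
    (z : Γ((DCoh.tensorBi.obj M).obj N, U.1)) :
    ∃ s : Γ((DCoh.tensorBi.obj M).obj N, ⊤), res _ le_top s - z ∈
      m ^ (i + j + 1) • (⊤ : Submodule Γ(X, U.1) Γ((DCoh.tensorBi.obj M).obj N, U.1)) := by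
  let T := (DCoh.tensorBi.obj M).obj N
  suffices H : ∀ d a, i + j + 1 ≤ a + d → ∀ z ∈ m ^ a • (⊤ : Submodule Γ(X, U.1) Γ(T, U.1)),
      ∃ s : Γ(T, ⊤), res T le_top s - z ∈ m ^ (i + j + 1) • (⊤ : Submodule Γ(X, U.1) Γ(T, U.1)) from
    H (i + j + 1) 0 (by omega) z (by simp)
  intro d
  induction d with
  | zero =>
    exact fun a ha z hz => ⟨0, by
      rw [map_zero, zero_sub]
      exact neg_mem (Submodule.smul_mono_left (Ideal.pow_le_pow_right (by omega)) hz)⟩
  | succ d ih =>
    intro a ha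
    rcases Nat.lt_or_ge (i + j) a with hlt | hle
    · exact fun z hz => ⟨0, by
        rw [map_zero, zero_sub]
        exact neg_mem (Submodule.smul_mono_left (Ideal.pow_le_pow_right (by omega)) hz)⟩
    intro z hz
    have hadd : ∀ z₁ z₂ : Γ(T, U.1),
        (∃ s : Γ(T, ⊤), res T le_top s - z₁ ∈ m ^ (i + j + 1) • (⊤ : Submodule Γ(X, U.1) Γ(T, U.1))) →
        (∃ s : Γ(T, ⊤), res T le_top s - z₂ ∈ m ^ (i + j + 1) • (⊤ : Submodule Γ(X, U.1) Γ(T, U.1))) →
        ∃ s : Γ(T, ⊤), res T le_top s - (z₁ + z₂) ∈ m ^ (i + j + 1) • (⊤ : Submodule Γ(X, U.1) Γ(T, U.1)) := by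
      rintro z₁ z₂ ⟨s₁, h₁⟩ ⟨s₂, h₂⟩
      exact ⟨s₁ + s₂, by rw [map_add, add_sub_add_comm]; exact add_mem h₁ h₂⟩
    refine Submodule.smul_induction_on hz (fun r hr n _ => ?_) hadd
    obtain ⟨w, rfl⟩ := (QCoh.bijective_tmLin hM hN U.2).2 n
    induction w using TensorProduct.induction_on with
    | zero => exact ⟨0, by simp⟩
    | add w₁ w₂ h₁ h₂ => rw [map_add, smul_add]; exact hadd _ _ (h₁ trivial) (h₂ trivial)
    | tmul f g =>
      rw [QCoh.tmLin_tmul]
      obtain ⟨p, q, hp, hq, hpq⟩ : ∃ p q, p ≤ i ∧ q ≤ j ∧ p + q = a :=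
        ⟨min a i, a - min a i, min_le_right _ _, by omega, by omega⟩
      rw [← hpq, pow_add] at hr
      refine Submodule.mul_induction_on hr (fun u hu v hv => ?_)
        (fun r₁ r₂ h₁ h₂ => by rw [add_smul]; exact hadd _ _ h₁ h₂)
      obtain ⟨s, hs⟩ := hi (u • f)
      obtain ⟨t, ht⟩ := hj (v • g)
      have hs' : res M le_top s ∈ m ^ p • (⊤ : Submodule Γ(X, U.1) Γ(M, U.1)) := by
        have h1 := add_mem (Submodule.smul_mono_left (Ideal.pow_le_pow_right (show p ≤ i + 1 by omega)) hs)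
          (Submodule.smul_mem_smul hu (Submodule.mem_top (x := f)))
        rwa [sub_add_cancel] at h1
      have he : res T le_top (QCoh.tmS M N s t) - (u * v) • QCoh.tmS M N f g ∈
          m ^ (a + 1) • (⊤ : Submodule Γ(X, U.1) Γ(T, U.1)) := by
        have h1 : res T (le_top : U.1 ≤ ⊤) (QCoh.tmS M N s t) = QCoh.tmS M N (res M le_top s) (res N le_top t) :=
          QCoh.map_tmS M N (homOfLE (le_top : U.1 ≤ ⊤)) s t
        have h2 : (u * v) • QCoh.tmS M N f g = QCoh.tmS M N (u • f) (v • g) := by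
          rw [QCoh.tmS_smul_left, QCoh.tmS_smul_right, ← mul_smul]
        have e1 : QCoh.tmS M N (res M le_top s - u • f) (v • g) + QCoh.tmS M N (res M le_top s) (res N le_top t - v • g) =
            QCoh.tmS M N (res M le_top s) (res N le_top t) - QCoh.tmS M N (u • f) (v • g) := by
          have a1 := QCoh.tmS_add_left M N (res M le_top s - u • f) (u • f) (v • g)
          have a2 := QCoh.tmS_add_right M N (res M le_top s) (res N le_top t - v • g) (v • g)
          rw [sub_add_cancel] at a1 a2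
          rw [a2, a1]
          abel
        rw [h1, h2, ← e1]
        exact add_mem (tmS_mem m (by omega) hs (Submodule.smul_mem_smul hv trivial))
          (tmS_mem m (by omega) hs' ht)
      obtain ⟨σ, hσ⟩ := ih (a + 1) (by omega) _ he
      refine ⟨QCoh.tmS M N s t - σ, ?_⟩
      rw [map_sub]
      convert neg_mem hσ using 1
      abel

end Groth.Agent.JetsPt22

end
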