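import Groth.Agent.BlowPush22.Restrict
import Groth.Agent.Snapper.DimVanish
import Groth.Agent.QCoh.DevissageP
import Groth.Agent.GrLib8.SurfExt.Criterion
import Groth.Agent.H23.PicMul
import Groth.Agent.H26.IdealCl
import Mathlib.CategoryTheory.Abelian.DiagramLemmas.KernelCokernelComp

/-!
# Cohomology of twisted powers of the ideal of a closed point
-/

set_option autoImplicit false
set_option linter.style.haveILetI false
set_option backward.isDefEq.respectTransparency false
set_option backward.isDefEq.respectTransparency.types false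
set_option maxHeartbeats 800000

universe u

open CategoryTheory CategoryTheory.Limits AlgebraicGeometry TopologicalSpace Opposite

noncomputable section

namespace Groth.Agent.JetsPt22

open Groth.Agent

/-- The powers of the ideal of a closed point are supported there. -/
theorem support_pow_subset {X : Scheme.{u}} {x : X} (hx : IsClosed ({x} : Set X)) :
    ∀ a : ℕ, (((Scheme.IdealSheafData.vanishingIdeal ⟨{x}, hx⟩) ^ a).support : Set X) ⊆ {x}
  | 0 => by simp
  | a + 1 => by
    rw [pow_succ, Scheme.IdealSheafData.support_mul]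
    exact fun y hy => hy.elim (fun h => support_pow_subset hx a h) id

variable {X : Scheme.{u}} [AlgebraicGeometry.IsNoetherian X]

/-- Modules supported at a closed point are acyclic. -/
theorem subsingleton_HH_point [X.IsSeparated] {x : X} (hx : IsClosed ({x} : Set X)) {M : X.Modules}
    (hM : Coh.IsQCoh M) (hs : CohB1.support M ⊆ {x}) (i : ℕ) (hi : 1 ≤ i) : Subsingleton (Coh.HH X M i) := by
  haveI : Subsingleton ↥(({x} : Set X)) := Set.subsingleton_singleton.coe_sort
  haveI : DiscreteTopology ↥((⟨{x}, hx⟩ : Closeds X) : Set X) := inferInstanceAs (DiscreteTopology ↥({x} : Set X))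
  refine Snapper.subsingleton_HH_of_dim_lt 1 ⟨{x}, hx⟩ ?_ M hM hs i hi
  exact lt_of_le_of_lt (topologicalKrullDim_zero_of_discreteTopology _) (by exact_mod_cast Nat.one_pos)

/-- The twist of the ideal sequence. -/
theorem exists_twist_ses (I : X.IdealSheafData) {F : X.Modules} (hF : FlatMod.IsFinLocFree F) :
    ∃ S : ShortComplex X.Modules, S.ShortExact ∧ S.X₂ = F ∧
      Nonempty (S.X₁ ≅ CohB1.tensorMod (ClSub.idealMod I) F) ∧ Coh.IsQCoh S.X₃ ∧
      CohB1.support S.X₃ ⊆ (I.support : Set X) := by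
  obtain ⟨f, w, hS⟩ := BlowPush22.exists_res_ses I hF
  have hq := QCoh.isQCoh_pullback I.subschemeι (QCoh.isQCoh_of_isFinLocFree hF)
  refine ⟨_, hS, rfl, ?_, QCoh.isQCoh_pushforward I.subschemeι hq,
    (QCoh.support_push_subset I.subschemeι hq).trans I.range_subschemeι.le⟩
  letI := H23.PicMul.clMonoid X
  refine H23.PicMul.cl_eq_iff.1 ?_
  show PicF.cl (CohB1.tensorMod F (ClSub.idealMod I)) = _
  rw [H23.PicMul.cl_tensor, H23.PicMul.cl_tensor, mul_comm]

/-- Twisted inclusions of powers of the point ideal. -/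
theorem exists_twist_pow_ses {x : X} (hx : IsClosed ({x} : Set X)) {L : X.Modules} (hL : PicF.IsInvertible L)
    (a : ℕ) :
    ∃ S : ShortComplex X.Modules, S.ShortExact ∧
      Nonempty (S.X₁ ≅ CohB1.tensorMod (ClSub.idealMod ((Scheme.IdealSheafData.vanishingIdeal ⟨{x}, hx⟩) ^ (a + 1))) L) ∧
      Nonempty (S.X₂ ≅ CohB1.tensorMod (ClSub.idealMod ((Scheme.IdealSheafData.vanishingIdeal ⟨{x}, hx⟩) ^ a)) L) ∧
      Coh.IsQCoh S.X₃ ∧ CohB1.support S.X₃ ⊆ {x} := by
  let I := (Scheme.IdealSheafData.vanishingIdeal ⟨{x}, hx⟩) ^ (a + 1)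
  let J := (Scheme.IdealSheafData.vanishingIdeal ⟨{x}, hx⟩) ^ a
  obtain ⟨φ, hφ⟩ := GrLib8.SurfExt.exists_hom_of_le (X := X) (I := I) (J := J)
    (fun U => by
      simp only [I, J, Scheme.IdealSheafData.ideal_pow]
      exact Ideal.pow_le_pow_right a.le_succ)
  haveI := H26.IdealCl.isEquivalence_tensor hL
  let T := DCoh.tensorBi.obj L
  haveI : Mono (ClSub.idealModι I) := (DivisorExt.ideal_shortExact I).mono_f
  haveI : Mono (φ ≫ ClSub.idealModι J) := hφ ▸ inferInstance
  haveI : Mono φ := mono_of_mono φ (ClSub.idealModι J)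
  have hS := (DivisorExt.ideal_shortExact I).map_of_exact T
  have hlf := H23.PullPush.isFinLocFree_of_isInvertible hL
  have hX₃ : ∀ K : X.IdealSheafData, Coh.IsQCoh (T.obj (ClSub.quotMod K)) ∧
      CohB1.support (T.obj (ClSub.quotMod K)) ⊆ (K.support : Set X) := fun K => by
    obtain ⟨e⟩ := BlowPush22.nonempty_quot_iso K hlf
    have hq := QCoh.isQCoh_pullback K.subschemeι (QCoh.isQCoh_of_isFinLocFree hlf)
    have hP := QCoh.isQCoh_pushforward K.subschemeι hq
    exact ⟨(QCoh.isQCoh_iff_iso e).2 hP, fun y hy => K.range_subschemeι.le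
      (QCoh.support_push_subset K.subschemeι hq (QCoh.mem_support_of_mono ((QCoh.isQCoh_iff_iso e).2 hP) hP e.hom hy))⟩
  have hT₂ : Coh.IsQCoh (T.obj (Coh.structureModule X)) :=
    (QCoh.isQCoh_iff_iso (H23.PicMul.unit L).some).2 (QCoh.isQCoh_of_isFinLocFree hlf)
  have hq : ∀ K : X.IdealSheafData, Coh.IsQCoh (T.obj (ClSub.idealMod K)) := fun K => by
    have hSK := (DivisorExt.ideal_shortExact K).map_of_exact T
    haveI := hSK.mono_f
    exact (QCoh.isQCoh_iff_iso (hSK.exact.fIsKernel.conePointUniqueUpToIso (limit.isLimit _) :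
      T.obj (ClSub.idealMod K) ≅ kernel (T.map (ClSub.toSubscheme K)))).2
      (QCoh.isQCoh_kernel hT₂ (hX₃ K).1 _)
  have hC : Coh.IsQCoh (cokernel (T.map φ)) := QCoh.isQCoh_cokernel (hq I) (hq J) _
  have hS' : (ShortComplex.mk (T.map φ) (cokernel.π _) (cokernel.condition _)).ShortExact :=
    { exact := ShortComplex.exact_of_g_is_cokernel _ (cokernelIsCokernel _) }
  refine ⟨_, hS', ?_, ?_, hC, ?_⟩
  · letI := H23.PicMul.clMonoid X
    refine H23.PicMul.cl_eq_iff.1 ?_
    show PicF.cl (CohB1.tensorMod L _) = _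
    rw [H23.PicMul.cl_tensor, H23.PicMul.cl_tensor, mul_comm]
  · letI := H23.PicMul.clMonoid X
    refine H23.PicMul.cl_eq_iff.1 ?_
    show PicF.cl (CohB1.tensorMod L _) = _
    rw [H23.PicMul.cl_tensor, H23.PicMul.cl_tensor, mul_comm]
  · let g := T.map (ClSub.idealModι J)
    let p : T.obj (Coh.structureModule X) ⟶ T.obj (ClSub.quotMod I) := T.map (ClSub.toSubscheme I)
    have hh : T.map φ ≫ g = T.map (ClSub.idealModι I) := by rw [← Functor.map_comp, hφ]
    haveI : Mono g := by
      haveI : Mono (ClSub.idealModι J) := (DivisorExt.ideal_shortExact J).mono_f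
      infer_instance
    have h0 : T.map φ ≫ g ≫ p = 0 := by rw [← Category.assoc, hh]; exact (((ShortComplex.mk _ _ (kernel.condition (ClSub.toSubscheme I))).map T).zero)
    let ψ : cokernel (T.map φ) ⟶ T.obj (ClSub.quotMod I) := cokernel.desc _ (g ≫ p) h0
    haveI : Mono ψ := by
      refine Preadditive.mono_of_cancel_zero _ fun {W} t ht => ?_
      obtain ⟨A, π, hπ, s, hs⟩ := surjective_up_to_refinements_of_epi (cokernel.π (T.map φ)) t
      have h1 : (s ≫ g) ≫ p = 0 := by
        rw [Category.assoc, ← cokernel.π_desc (T.map φ) (g ≫ p) h0, ← Category.assoc, ← hs, Category.assoc, ht,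
          comp_zero]
      obtain ⟨A', π', hπ', r, hr⟩ := hS.exact.exact_up_to_refinements (s ≫ g) h1
      have h2 : π' ≫ s = r ≫ T.map φ := (cancel_mono g).1 (by rw [Category.assoc, Category.assoc, hh]; exact hr)
      refine (cancel_epi (π' ≫ π)).1 ?_
      rw [Category.assoc, hs, reassoc_of% h2, cokernel.condition, comp_zero, comp_zero]
    exact fun y hy => support_pow_subset hx (a + 1) ((hX₃ I).2 (QCoh.mem_support_of_mono hC (hX₃ I).1 ψ hy))

end Groth.Agent.JetsPt22

end
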